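import Cfsg.Agent.Lib.RuAut.Mult.Eval
import Cfsg.Agent.Lib.RuAut.Simple
import Cfsg.Agent.Lib.SLCover.Universal

/-! The double cover of the Rudvalis group is perfect and covers it centrally with a kernel of order two. -/

set_option autoImplicit false
set_option maxRecDepth 100000

namespace CfsgLib.RuAut.Mult

open Cfsg Cfsg.Spor CfsgLib CfsgLib.CosetEnum CfsgLib.RuAut
open scoped commutatorElement

attribute [local irreducible] Tr.get

/-- A word for minus the identity. -/
def negW : List ℕ := [3, 3, 4, 0, 5, 0, 5, 5, 4, 2, 4, 0, 4, 5, 1, 1, 1, 0, 5]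

/-- The first of two words commuting up to sign. -/
def witA : List ℕ := [1, 5, 5, 5, 4, 2, 3, 4, 0, 0, 4, 5, 3, 3, 2, 2, 0]

/-- The second of two words commuting up to sign. -/
def witB : List ℕ := [4, 3, 2, 3, 5, 4, 5, 5, 5, 5, 5, 3, 5, 3, 4, 3, 5]

theorem wit_check : eqV (witA ++ witB) (negW ++ witB ++ witA) = true := by decide +kernel

theorem neg_line : Outer.eqW negW [] = true := by decide +kernel

theorem neg_move : (wordB negW && !Nat.beq (scanV negW 0) 0) = true := by decide +kernel

/-- The covering map. -/
noncomputable def sigma : coverGrp →* Cfsg.Spor.Ru :=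
  (QuotientGroup.mk' (Subgroup.center fourRu)).comp coverGrp.subtype

theorem sigma_surjective : Function.Surjective sigma := by
  intro q
  obtain ⟨z, rfl⟩ := QuotientGroup.mk'_surjective _ q
  have hz : z ∈ coverGrp ⊔ Subgroup.center fourRu := by
    have h2 : eI ∈ coverGrp ⊔ Subgroup.center fourRu :=
      Subgroup.mem_sup_right (by rw [center_eq]; exact Subgroup.mem_zpowers _)
    have hd := Subgroup.index_dvd_of_le (le_sup_left : coverGrp ≤ coverGrp ⊔ Subgroup.center fourRu)
    rw [coverGrp_index.1] at hd
    rcases (Nat.dvd_prime Nat.prime_two).1 hd with h | h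
    · rw [Subgroup.index_eq_one.1 h]; exact Subgroup.mem_top _
    · exfalso
      apply eI_not_mem
      have e : coverGrp = coverGrp ⊔ Subgroup.center fourRu :=
        Subgroup.eq_of_le_of_card_ge le_sup_left (le_of_eq (by
          have c1 := Subgroup.card_mul_index coverGrp
          have c2 := Subgroup.card_mul_index (coverGrp ⊔ Subgroup.center fourRu)
          rw [coverGrp_index.1] at c1
          rw [h] at c2
          exact Nat.eq_of_mul_eq_mul_right (by norm_num : 0 < 2) (c2.trans c1.symm)))
      rwa [← e] at h2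
  obtain ⟨a, ha, c, hc, rfl⟩ := Subgroup.mem_sup_of_normal_right.1 hz
  refine ⟨⟨a, ha⟩, ?_⟩
  show QuotientGroup.mk' (Subgroup.center fourRu) a = _
  rw [map_mul, show QuotientGroup.mk' (Subgroup.center fourRu) c = 1 from (QuotientGroup.eq_one_iff c).2 hc, mul_one]

theorem ker_le_center : sigma.ker ≤ Subgroup.center coverGrp := by
  intro x hx
  have h : (x : fourRu) ∈ Subgroup.center fourRu := (QuotientGroup.eq_one_iff _).1 (MonoidHom.mem_ker.1 hx)
  exact Subgroup.mem_center_iff.2 fun g => Subtype.ext (Subgroup.mem_center_iff.1 h g)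

theorem card_ker : Nat.card sigma.ker = 2 := by
  have h := Subgroup.card_mul_index sigma.ker
  rw [Subgroup.index_ker, MonoidHom.range_eq_top.2 sigma_surjective, Subgroup.card_top, card_coverGrp, card_Ru] at h
  exact Nat.eq_of_mul_eq_mul_right (by norm_num : 0 < 145926144000) (h.trans (by norm_num))

theorem sigma_evK (w : List ℕ) : sigma (evK w) = Outer.ev w := mk_evK w

theorem evK_neg_ne : evK negW ≠ 1 := by
  intro h
  have hc := neg_move
  rw [Bool.and_eq_true, Bool.not_eq_true'] at hc
  have e := evK_apply negW (wordB_spec hc.1) ⟨0, by norm_num⟩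
  rw [h, map_one, Equiv.Perm.one_apply] at e
  have := hc.2
  rw [← e] at this
  simp at this

theorem commutator_Ru : commutator Cfsg.Spor.Ru = ⊤ := by
  have hs := isSimple_Ru
  rcases (inferInstance : (commutator Cfsg.Spor.Ru).Normal).eq_bot_or_eq_top with h | h
  · exfalso
    have hcomm : ∀ a b : Cfsg.Spor.Ru, a * b = b * a := by
      intro a b
      rw [← commutatorElement_eq_one_iff_mul_comm, ← Subgroup.mem_bot, ← h]
      exact Subgroup.commutator_mem_commutator (Subgroup.mem_top a) (Subgroup.mem_top b)
    let _ : CommGroup Cfsg.Spor.Ru := { (inferInstance : Group Cfsg.Spor.Ru) with mul_comm := hcomm }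
    have := @IsSimpleGroup.prime_card Cfsg.Spor.Ru _ hs
    rw [card_Ru] at this
    norm_num at this
  · exact h

theorem commutator_cover : commutator coverGrp = ⊤ := by
  have hm : evK negW ∈ commutator coverGrp := by
    have e := eqV_spec wit_check
    rw [evK_append, evK_append, evK_append] at e
    have e' : evK negW = ⁅evK witA, evK witB⁆ := by rw [commutatorElement_def, e]; group
    rw [e']
    exact Subgroup.commutator_mem_commutator (Subgroup.mem_top _) (Subgroup.mem_top _)
  have hmk : evK negW ∈ sigma.ker := by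
    rw [MonoidHom.mem_ker, sigma_evK, Outer.eqW_spec neg_line, Outer.ev_nil]
  have hker : sigma.ker ≤ commutator coverGrp := by
    have hle : Subgroup.zpowers (evK negW) ≤ sigma.ker := Subgroup.zpowers_le.2 hmk
    have hc := Subgroup.card_dvd_of_le hle
    rw [card_ker, Nat.card_zpowers] at hc
    rcases (Nat.dvd_prime Nat.prime_two).1 hc with h | h
    · exact absurd (orderOf_eq_one_iff.1 h) evK_neg_ne
    · rw [← Subgroup.eq_of_le_of_card_ge hle (by rw [card_ker, Nat.card_zpowers, h])]
      exact Subgroup.zpowers_le.2 hm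
  have hmap : (commutator coverGrp).map sigma = ⊤ := by
    rw [commutator_def, Subgroup.map_commutator, Subgroup.map_top_of_surjective _ sigma_surjective,
      ← commutator_def, commutator_Ru]
  have h := Subgroup.comap_map_eq sigma (commutator coverGrp)
  rw [hmap, Subgroup.comap_top, sup_eq_left.2 hker] at h
  exact h.symm

/-- The multiplier of the Rudvalis group from the triviality of that of its double cover. -/
theorem hasCyclic_of_closed
    (H : ∀ (Γ : Type) [Group Γ] [Finite Γ] (σ : Γ →* coverGrp), Function.Surjective σ →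
      σ.ker ≤ Subgroup.center Γ → σ.ker ≤ commutator Γ → ∀ r : ℕ, r.Prime → ¬ r ∣ Nat.card σ.ker) :
    Cfsg.HasCyclicSchurMultiplier Cfsg.Spor.Ru 2 := by
  have : Fact (Nat.Prime 2) := ⟨Nat.prime_two⟩
  have := isCyclic_of_prime_card card_ker
  refine SLCover.hasSchurMultiplier_of_closed sigma sigma_surjective ker_le_center commutator_cover ?_
    (A := Multiplicative (ZMod 2)) (mulEquivOfCyclicCardEq (by rw [card_ker, Nat.card_eq_fintype_card]; simp))
  intro E _ _ p hp hc hperf
  rw [← MonoidHom.ker_eq_bot_iff, ← Subgroup.card_eq_one]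
  by_contra hne
  obtain ⟨r, hr, hdvd⟩ := Nat.exists_prime_and_dvd hne
  exact H E p hp hc (hperf ▸ le_top) r hr hdvd

end CfsgLib.RuAut.Mult
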