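import Cfsg.Agent.Lib.Schur.PathCert

/-! Generated certificate for the multiplier of the double cover at the prime 3. -/

set_option autoImplicit false
set_option maxRecDepth 100000

namespace CfsgLib.RuAut.Mult

open CfsgLib

/-- Words of the letters. -/
def letters3 : List (List ℕ) :=
  [[1, 2, 0, 4, 0, 5, 5, 4, 3, 1, 3, 5, 0, 4, 0, 2],
    [2, 4, 3, 1, 5, 5, 1, 1, 0, 2, 3, 5, 5, 0, 5, 5, 4, 2, 4],
    [5, 3, 5, 4, 0, 2, 1, 3, 1, 5, 1, 3, 5, 1, 3],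
    [5, 3, 1, 5, 4, 3, 5, 0, 2, 3, 4, 4, 0, 1, 1, 5, 3, 2],
    [4, 0, 4, 4, 5, 0, 5, 0, 0, 1, 3, 1, 3, 2, 0, 4, 3, 1, 5, 5, 1, 1],
    [0, 0, 5, 0, 4, 5, 3, 5, 3, 4, 4, 5, 0, 1, 1, 3]]

/-- Relations. -/
def rels3_0 : SchurPath.Rels :=
  [([0, 0, 0], []),
    ([1, 0], [0, 1]),
    ([1, 1, 1], []),
    ([2, 0], [0, 2]),
    ([2, 1], [0, 0, 1, 2]),
    ([2, 2, 2], []),
    ([3, 1], [2, 2, 3]),
    ([3, 2], [1, 1, 3]),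
    ([4, 0], [0, 0, 1, 1, 2, 4]),
    ([4, 1, 1, 2], [1, 1, 2, 4]),
    ([5, 1], [0, 0, 1, 1, 2, 5]),
    ([5, 2], [0, 1, 2, 5])]

/-- Relations. -/
def rels3 : SchurPath.Rels :=
  rels3_0

/-- Part of a transversal. -/
def orb3_0_0 : List (List ℕ) :=
  [[], [1, 2], [0, 2, 2], [0, 1, 1, 2], [1, 1, 2], [0, 0, 1, 1, 2], [0, 1, 2], [0, 0, 2, 2], [0], [0, 0, 1, 2], [0, 0, 1, 1], [0, 0, 1, 2, 2], [0, 1, 1], [0, 0, 1, 1, 2, 2], [0, 1, 1, 2, 2], [0, 1], [1, 2, 2], [0, 0, 1], [2], [0, 0], [2, 2], [1, 1, 2, 2], [1], [1, 1], [0, 1, 2, 2], [0, 0, 2], [0, 2]]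

/-- Transversals along the base. -/
def sift3 : List (ℕ × List (List ℕ)) :=
  [(0, orb3_0_0)]

/-- A path. -/
def code3_0 : List ℕ :=
  [3072, 3074, 3076, 2563, 2560, 1281]

/-- A path. -/
def code3_1 : List ℕ :=
  [2560, 256, 2820, 2305, 1792, 258, 2307, 1794, 1793, 2306]

/-- A path. -/
def code3_2 : List ℕ :=
  [4096, 4101, 4106, 1545, 1546, 2059, 2062, 525, 526, 12, 9, 1032, 1540, 1541, 2054, 2569, 5, 515, 514, 1027, 0, 257]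

/-- A path. -/
def code3_3 : List ℕ :=
  [5120, 5125, 5130, 1545, 1546, 2059, 2062, 525, 526, 12, 9, 1032, 1540, 1541, 2054, 2569, 5, 515, 514, 1027, 0, 1281]

/-- A path. -/
def code3_4 : List ℕ :=
  [3584, 3074, 3588, 3078, 2051, 2054, 2569, 517, 518, 4, 1538, 2051, 2054, 517, 518, 4, 513, 514, 1027, 512, 513, 2304, 257, 2821, 2306, 1793, 259, 2308, 1795, 1794, 2307, 1285, 3846, 3844, 3330, 3328, 257, 260, 774, 773, 2310, 2307, 1794, 1793, 771, 770, 2307]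

/-- Paths. -/
def paths3_0 : List (List ℕ × List ℕ) :=
  [([3, 1, 1, 1], code3_0),
    ([2, 2, 2, 1], code3_1),
    ([4, 0, 0, 0], code3_2),
    ([5, 1, 1, 1], code3_3),
    ([3, 2, 1, 2, 1], code3_4)]

/-- Paths. -/
def paths3 : List (List ℕ × List ℕ) :=
  paths3_0

/-- Rows. -/
def rows3_0 : List (List ℕ) :=
  [[0, 0, 2, 0, 0, 2, 0, 0, 0, 0, 0, 0],
    [1, 0, 0, 0, 0, 0, 0, 0, 0, 0, 0, 0],
    [0, 1, 2, 1, 0, 1, 0, 0, 0, 0, 0, 0],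
    [1, 1, 1, 1, 0, 1, 0, 0, 0, 0, 0, 0],
    [1, 1, 0, 2, 0, 0, 0, 0, 0, 0, 0, 0]]

/-- Rows. -/
def rows3 : List (List ℕ) :=
  rows3_0

/-- Combinations. -/
def combs3_0 : List (List ℕ) :=
  [[0, 1, 0, 0, 0],
    [2, 2, 0, 2, 2],
    [0, 1, 1, 2, 0],
    [2, 0, 0, 2, 1],
    [0, 0, 0, 0, 0],
    [2, 2, 2, 1, 0]]

/-- Combinations. -/
def combs3 : List (List ℕ) :=
  combs3_0

/-- Corrections of the lifts. -/
def mus3 : List (List ℕ) :=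
  [[0, 0, 0, 0, 2, 0, 0, 0, 0, 0, 0, 0],
    [0, 0, 0, 0, 0, 0, 0, 0, 0, 0, 0, 0],
    [0, 0, 0, 0, 0, 0, 0, 0, 0, 0, 0, 0]]

end CfsgLib.RuAut.Mult
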