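import Cfsg.Agent.Lib.RuAut.Mult.PCommon
import Cfsg.Agent.Lib.RuAut.Mult.DataP3

/-! The certificate at the prime 3. -/

set_option autoImplicit false
set_option maxRecDepth 100000

namespace CfsgLib.RuAut.Mult

open Cfsg Cfsg.Spor CfsgLib CfsgLib.CosetEnum CfsgLib.RuAut

/-- The certificate. -/
noncomputable def cert3 : SchurPath.Cert where
  m := 3
  rels := rels3
  paths := paths3.map fun q => (q.1, expandP rels3 q.1 q.2)
  rows := rows3
  mu := mus3
  comb := combs3

theorem check3 : cert3.check 3 = true := by decide +kernel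

theorem data3 : dataOK letters3 sift3 cert3 (3 ^ cert3.m) = true := by decide +kernel

/-- The multiplier of the double cover has no part at 3. -/
theorem not_dvd_three {Γ : Type} [Group Γ] [Finite Γ] (σ : Γ →* coverGrp) (hσ : Function.Surjective σ)
    (hc : σ.ker ≤ Subgroup.center Γ) (hd : σ.ker ≤ commutator Γ) : ¬ 3 ∣ Nat.card σ.ker := by
  have : Fact (Nat.Prime 3) := ⟨by norm_num⟩
  exact not_dvd_of_data letters3 sift3 cert3 check3 data3 (i := 10809344000)
    (by show _ = 3 ^ 3 * _; norm_num) (by norm_num) σ hσ hc hd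

end CfsgLib.RuAut.Mult
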