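import Cfsg.Agent.Lib.RuAut.Mult.PCommon
import Cfsg.Agent.Lib.RuAut.Mult.DataP5

/-! The certificate at the prime 5. -/

set_option autoImplicit false
set_option maxRecDepth 100000

namespace CfsgLib.RuAut.Mult

open Cfsg Cfsg.Spor CfsgLib CfsgLib.CosetEnum CfsgLib.RuAut

/-- The certificate. -/
noncomputable def cert5 : SchurPath.Cert where
  m := 3
  rels := rels5
  paths := paths5.map fun q => (q.1, expandP rels5 q.1 q.2)
  rows := rows5
  mu := mus5
  comb := combs5

theorem check5 : cert5.check 5 = true := by decide +kernel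

theorem data5 : dataOK letters5 sift5 cert5 (5 ^ cert5.m) = true := by decide +kernel

/-- The multiplier of the double cover has no part at 5. -/
theorem not_dvd_five {Γ : Type} [Group Γ] [Finite Γ] (σ : Γ →* coverGrp) (hσ : Function.Surjective σ)
    (hc : σ.ker ≤ Subgroup.center Γ) (hd : σ.ker ≤ commutator Γ) : ¬ 5 ∣ Nat.card σ.ker := by
  have : Fact (Nat.Prime 5) := ⟨by norm_num⟩
  exact not_dvd_of_data letters5 sift5 cert5 check5 data5 (i := 2334818304)
    (by show _ = 5 ^ 3 * _; norm_num) (by norm_num) σ hσ hc hd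

end CfsgLib.RuAut.Mult
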