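import Cfsg.Agent.Lib.RuAut.Mult.P2
import Cfsg.Agent.Lib.RuAut.Mult.P3
import Cfsg.Agent.Lib.RuAut.Mult.P5
import Cfsg.Agent.Lib.Schur.Bound

/-! The double cover of the Rudvalis group has no proper stem extensions. -/

set_option autoImplicit false

namespace CfsgLib.RuAut.Mult

open Cfsg Cfsg.Spor CfsgLib CfsgLib.RuAut

/-- The kernel of a stem extension of the double cover has no prime divisor. -/
theorem closed (Γ : Type) [Group Γ] [Finite Γ] (σ : Γ →* coverGrp) (hσ : Function.Surjective σ)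
    (hc : σ.ker ≤ Subgroup.center Γ) (hd : σ.ker ≤ commutator Γ) (r : ℕ) (hr : r.Prime) :
    ¬ r ∣ Nat.card σ.ker := by
  by_cases h : r ^ 2 ∣ Nat.card coverGrp
  · have hmem : r = 2 ∨ r = 3 ∨ r = 5 := by
      rw [card_coverGrp, show (291852288000 : ℕ) = 2 ^ 15 * 3 ^ 3 * 5 ^ 3 * (7 * 13 * 29) by norm_num] at h
      have hcop : ∀ q : ℕ, q.Prime → r ≠ q → ∀ k, (r ^ 2).Coprime (q ^ k) := fun q hq hne k =>
        Nat.Coprime.pow 2 k ((Nat.coprime_primes hr hq).2 hne)
      by_contra hn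
      push Not at hn
      obtain ⟨h2, h3, h5⟩ := hn
      have h4 : r ^ 2 ∣ 7 * 13 * 29 := by
        refine Nat.Coprime.dvd_of_dvd_mul_left ?_ h
        exact ((hcop 2 Nat.prime_two h2 15).mul_right (hcop 3 Nat.prime_three h3 3)).mul_right
          (hcop 5 (by norm_num) h5 3)
      have hle : r ^ 2 ≤ 2639 := Nat.le_of_dvd (by norm_num) h4
      have hr52 : r < 52 := by nlinarith
      have hall : ∀ k < 52, k ^ 2 ∣ 2639 → k = 1 := by decide +kernel
      exact hr.ne_one (hall r hr52 (by simpa using h4))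
    rcases hmem with rfl | rfl | rfl
    · exact not_dvd_two σ hσ hc hd
    · exact not_dvd_three σ hσ hc hd
    · exact not_dvd_five σ hσ hc hd
  · have : Fact r.Prime := ⟨hr⟩
    exact SchurBound.not_dvd_card_ker_of_sq_not_dvd σ hσ hc hd h

end CfsgLib.RuAut.Mult
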