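import Cfsg.Agent.Lib.RuAut.Out.Cert
import Cfsg.Agent.Lib.Schur.PathCert

/-! Words in the double cover and checked data over its Sylow subgroups. -/

set_option autoImplicit false
set_option maxRecDepth 100000

namespace CfsgLib.RuAut.Mult

open Cfsg Cfsg.Spor CfsgLib CfsgLib.CosetEnum CfsgLib.RuAut

attribute [local irreducible] Tr.get

/-- The generators of the double cover. -/
noncomputable def genK : ℕ → coverGrp
  | 0 => ⟨eW, Subgroup.subset_closure (by simp)⟩
  | 1 => ⟨eT, Subgroup.subset_closure (by simp)⟩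
  | 2 => ⟨eT2, Subgroup.subset_closure (by simp)⟩
  | 3 => ⟨eW⁻¹, inv_mem (Subgroup.subset_closure (by simp))⟩
  | 4 => ⟨eT⁻¹, inv_mem (Subgroup.subset_closure (by simp))⟩
  | 5 => ⟨eT2⁻¹, inv_mem (Subgroup.subset_closure (by simp))⟩
  | _ => 1

/-- Value of a word. -/
noncomputable def evK (w : List ℕ) : coverGrp := (w.map genK).prod

theorem evK_cons (x : ℕ) (w : List ℕ) : evK (x :: w) = genK x * evK w := by simp [evK]

theorem evK_append (u w : List ℕ) : evK (u ++ w) = evK u * evK w := by simp [evK, List.map_append, List.prod_append]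

/-- A short vector moved by a word. -/
noncomputable def scanV : List ℕ → ℕ → ℕ :=
  fun w => List.rec (motive := fun _ => ℕ → ℕ) (fun k => k) (fun x _ ih k => strict (ih k) fun y => act coverTab x y) w

theorem scanV_cons (x : ℕ) (w : List ℕ) (k : ℕ) : scanV (x :: w) k = act coverTab x (scanV w k) := by
  show strict (scanV w k) (fun y => act coverTab x y) = _
  rw [strict_eq]

/-- The action of the double cover on short vectors. -/
noncomputable def piK : coverGrp →* Equiv.Perm (Fin 16240) := piV.comp coverGrp.subtype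

theorem piK_gen {x : ℕ} (hx : x < 6) (k : Fin 16240) :
    ((piK (genK x) k : Fin 16240) : ℕ) = act coverTab x k := by
  obtain ⟨i1, i2, i3⟩ := acts_inv_all
  rw [act_get coverTab (show x < coverTab.length from hx)]
  interval_cases x
  · exact acts_eW k
  · exact acts_eT k
  · exact acts_eT2 k
  · exact i1 k
  · exact i2 k
  · exact i3 k

theorem evK_apply : ∀ (w : List ℕ), (∀ x ∈ w, x < 6) → ∀ k : Fin 16240,
    ((piK (evK w) k : Fin 16240) : ℕ) = scanV w k
  | [], _, k => by rw [show evK [] = 1 from rfl, map_one]; rfl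
  | x :: w, h, k => by
    rw [evK_cons, map_mul, Equiv.Perm.mul_apply, scanV_cons, piK_gen (h x (by simp)),
      evK_apply w (fun y hy => h y (by simp [hy])) k]

theorem gen_eq : ∀ x, (QuotientGroup.mk ((genK x : coverGrp) : fourRu) : Cfsg.Spor.Ru) = Outer.gen x
  | 0 => rfl
  | 1 => rfl
  | 2 => rfl
  | 3 => rfl
  | 4 => rfl
  | 5 => rfl
  | n + 6 => rfl

theorem mk_evK : ∀ w : List ℕ, (QuotientGroup.mk ((evK w : coverGrp) : fourRu) : Cfsg.Spor.Ru) = Outer.ev w
  | [] => rfl
  | x :: w => by
    rw [evK_cons, Subgroup.coe_mul, QuotientGroup.mk_mul, mk_evK w, gen_eq, Outer.ev_cons]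

/-- The base vectors. -/
def baseV : List ℕ := [0, 112, 116, 7553, 4, 129]

theorem eq_of_baseV (g h : coverGrp) (e : ∀ b ∈ baseV, ∀ hb : b < 16240, piK g ⟨b, hb⟩ = piK h ⟨b, hb⟩) : g = h := by
  refine (inv_mul_eq_one.1 (Subtype.ext (eq_one_of_fixes (f := ((g⁻¹ * h : coverGrp) : fourRu)) fun i hi => ?_)))
  have hv : ((bPt i : Fin 16240) : ℕ) = baseV.getD i 0 := by
    obtain ⟨b0, b1, b2, b3, b4, b5⟩ := bPt_val
    interval_cases i
    · exact b0
    · exact b1
    · exact b2
    · exact b3
    · exact b4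
    · exact b5
  have hm : baseV.getD i 0 ∈ baseV := by
    rw [List.getD_eq_getElem _ _ (show i < baseV.length from hi)]; exact List.getElem_mem _
  have he := e _ hm (hv ▸ (bPt i).2)
  rw [show (⟨baseV.getD i 0, _⟩ : Fin 16240) = bPt i from Fin.ext hv.symm] at he
  show piK (g⁻¹ * h) (bPt i) = bPt i
  rw [map_mul, map_inv, Equiv.Perm.mul_apply, ← he, Equiv.Perm.inv_def, Equiv.symm_apply_apply]

/-- Letters of a word are generators. -/
noncomputable def wordB (w : List ℕ) : Bool := w.all fun x => Nat.blt x 6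

theorem wordB_spec {w : List ℕ} (h : wordB w = true) : ∀ x ∈ w, x < 6 := fun x hx => by
  have := List.all_eq_true.1 h x hx
  rwa [Nat.blt_eq] at this

/-- Two words have equal values. -/
noncomputable def eqV (u w : List ℕ) : Bool :=
  wordB u && wordB w && baseV.all fun k => Nat.beq (scanV u k) (scanV w k)

theorem eqV_spec {u w : List ℕ} (h : eqV u w = true) : evK u = evK w := by
  simp only [eqV, Bool.and_eq_true, List.all_eq_true, Nat.beq_eq] at h
  refine eq_of_baseV _ _ fun k hk hk' => Fin.ext ?_
  rw [evK_apply _ (wordB_spec h.1.1), evK_apply _ (wordB_spec h.1.2)]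
  exact h.2 k hk

/-- Substitute words for letters. -/
noncomputable def flat (L : List (List ℕ)) (w : List ℕ) : List ℕ := (w.map fun a => L.getD a []).flatten

theorem evK_flat (L : List (List ℕ)) : ∀ w : List ℕ, evK (flat L w) = SchurPath.wv (fun a => evK (L.getD a [])) w
  | [] => by simp [flat, evK, SchurPath.wv]
  | a :: w => by
    rw [show flat L (a :: w) = L.getD a [] ++ flat L w from rfl, evK_append, evK_flat L w]
    simp [SchurPath.wv]

/-- Strictly increasing. -/
noncomputable def incrB : List ℕ → Bool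
  | a :: b :: l => Nat.blt a b && incrB (b :: l)
  | _ => true

theorem incrB_pairwise : ∀ {l : List ℕ}, incrB l = true → l.Pairwise (· < ·)
  | [], _ => List.Pairwise.nil
  | [a], _ => List.pairwise_singleton _ _
  | a :: b :: l, h => by
    rw [incrB, Bool.and_eq_true, Nat.blt_eq] at h
    have ih := incrB_pairwise h.2
    refine List.pairwise_cons.2 ⟨fun x hx => ?_, ih⟩
    rcases List.mem_cons.1 hx with rfl | hx
    · exact h.1
    · exact lt_trans h.1 ((List.pairwise_cons.1 ih).1 x hx)

/-- Orbit data along a list of vectors. -/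
noncomputable def siftB (L : List (List ℕ)) (m : ℕ) : List (ℕ × List (List ℕ)) → Bool
  | [] => true
  | (n, ws) :: rest =>
    Nat.blt n 16240 && (ws.all fun w => (w.all fun a => Nat.blt a m) && wordB (flat L w)) &&
      incrB (ws.map fun w => scanV (flat L w) n) &&
      (rest.flatMap Prod.snd).all (fun w => wordB (flat L w) && Nat.beq (scanV (flat L w) n) n) && siftB L m rest

/-- The product of the orbit lengths. -/
def siftN : List (ℕ × List (List ℕ)) → ℕ
  | [] => 1
  | (_, ws) :: rest => ws.length * siftN rest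

/-- The checks of the data at one prime against the group. -/
noncomputable def dataOK (L : List (List ℕ)) (sift : List (ℕ × List (List ℕ))) (C : SchurPath.Cert) (q : ℕ) : Bool :=
  (C.rels.all fun r => eqV (flat L r.1) (flat L r.2)) && siftB L C.m sift && Nat.ble q (siftN sift)

theorem sift_le_card (L : List (List ℕ)) {m : ℕ} :
    ∀ (lv : List (ℕ × List (List ℕ))) (S : Subgroup coverGrp), siftB L m lv = true →
      (∀ w ∈ lv.flatMap Prod.snd, evK (flat L w) ∈ S) → siftN lv ≤ Nat.card S
  | [], S, _, _ => by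
    show 1 ≤ _
    exact Nat.card_pos
  | (n, ws) :: rest, S, h, hmem => by
    classical
    simp only [siftB, Bool.and_eq_true, List.all_eq_true, Nat.blt_eq, Nat.beq_eq] at h
    obtain ⟨⟨⟨⟨hn, hws⟩, hincr⟩, hfix⟩, hrest⟩ := h
    let x : Fin 16240 := ⟨n, hn⟩
    let S' : Subgroup coverGrp := S ⊓ Subgroup.comap piK (MulAction.stabilizer (Equiv.Perm (Fin 16240)) x)
    have hS' : ∀ g, g ∈ S' ↔ g ∈ S ∧ piK g x = x := fun g => by
      simp only [S', Subgroup.mem_inf, Subgroup.mem_comap, MulAction.mem_stabilizer_iff]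
      rfl
    have hmem' : ∀ w ∈ rest.flatMap Prod.snd, evK (flat L w) ∈ S' := fun w hw => by
      refine (hS' _).2 ⟨hmem w (by simp only [List.flatMap_cons, List.mem_append]; exact Or.inr hw), Fin.ext ?_⟩
      rw [evK_apply _ (wordB_spec (hfix w hw).1)]
      exact (hfix w hw).2
    have ih := sift_le_card L rest S' hrest hmem'
    have hT : ∀ j : Fin ws.length, evK (flat L ws[(j : ℕ)]) ∈ S := fun j =>
      hmem _ (by simp only [List.flatMap_cons, List.mem_append]; exact Or.inl (List.getElem_mem j.2))
    let f : Fin ws.length × S' → S := fun p =>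
      ⟨evK (flat L ws[(p.1 : ℕ)]) * (p.2 : coverGrp), mul_mem (hT p.1) ((hS' _).1 p.2.2).1⟩
    have hf : Function.Injective f := by
      rintro ⟨j, s⟩ ⟨k, t⟩ h
      have hjk : evK (flat L ws[(j : ℕ)]) * (s : coverGrp) = evK (flat L ws[(k : ℕ)]) * (t : coverGrp) :=
        congrArg (fun x : S => (x : coverGrp)) h
      have hv := congrArg (fun g : coverGrp => ((piK g x : Fin 16240) : ℕ)) hjk
      simp only [map_mul, Equiv.Perm.mul_apply, ((hS' _).1 s.2).2, ((hS' _).1 t.2).2] at hv
      rw [evK_apply _ (wordB_spec (hws _ (List.getElem_mem j.2)).2),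
        evK_apply _ (wordB_spec (hws _ (List.getElem_mem k.2)).2)] at hv
      have hnd : (ws.map fun w => scanV (flat L w) n).Nodup :=
        (incrB_pairwise hincr).imp fun hab => Nat.ne_of_lt hab
      have hjk' : j = k := Fin.ext ((List.Nodup.getElem_inj_iff hnd (hi := by simp) (hj := by simp)).1
        (by simpa using hv))
      subst hjk'
      exact Prod.ext rfl (Subtype.ext (mul_left_cancel hjk))
    have := Nat.card_le_card_of_injective f hf
    rw [Nat.card_prod, Nat.card_fin] at this
    exact le_trans (Nat.mul_le_mul_left _ ih) this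

/-- The certificate at one prime, applied to the double cover. -/
theorem not_dvd_of_data (L : List (List ℕ)) (sift : List (ℕ × List (List ℕ))) (C : SchurPath.Cert)
    {p : ℕ} [Fact p.Prime] (hC : C.check p = true) (hD : dataOK L sift C (p ^ C.m) = true) {i : ℕ}
    (hNi : 291852288000 = p ^ C.m * i) (hi : ¬ p ∣ i) {Γ : Type*} [Group Γ] [Finite Γ]
    (σ : Γ →* coverGrp) (hσ : Function.Surjective σ) (hc : σ.ker ≤ Subgroup.center Γ)
    (hd : σ.ker ≤ commutator Γ) : ¬ p ∣ Nat.card σ.ker := by
  simp only [dataOK, Bool.and_eq_true, Nat.ble_eq] at hD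
  obtain ⟨⟨hR, hsift⟩, hq⟩ := hD
  refine SchurPath.not_dvd_card_ker_of_check C hC (fun a => evK (L.getD a [])) ?_ ?_
    card_coverGrp hNi hi σ hσ hc hd
  · intro r hr
    have := List.all_eq_true.1 hR _ (List.getElem_mem hr)
    rw [List.getD_eq_getElem _ _ hr, ← evK_flat, ← evK_flat]
    exact eqV_spec this
  · refine le_trans hq (sift_le_card L sift _ hsift fun w hw => ?_)
    rw [evK_flat]
    refine list_prod_mem fun y hy => ?_
    obtain ⟨a, ha, rfl⟩ := List.mem_map.1 hy
    refine Subgroup.subset_closure ⟨a, ?_, rfl⟩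
    clear hq hR hC
    induction sift with
    | nil => simp at hw
    | cons e rest ih =>
      obtain ⟨n, ws⟩ := e
      simp only [siftB, Bool.and_eq_true, List.all_eq_true, Nat.blt_eq] at hsift
      simp only [List.flatMap_cons, List.mem_append] at hw
      rcases hw with hw | hw
      · exact (hsift.1.1.1.2 w hw).1 a ha
      · exact ih hsift.2 hw

end CfsgLib.RuAut.Mult
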