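import Cfsg.Agent.Lib.RuAut.Mult.PCommon
import Cfsg.Agent.Lib.RuAut.Mult.DataP2

/-! Paths at the prime two. -/

set_option autoImplicit false
set_option maxRecDepth 100000

namespace CfsgLib.RuAut.Mult

open Cfsg Cfsg.Spor CfsgLib CfsgLib.CosetEnum CfsgLib.RuAut

theorem paths_ok10 : rowsB rels2 paths2_10 rows2_10 = true := by decide +kernel

end CfsgLib.RuAut.Mult
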