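import Cfsg.Agent.Lib.RuAut.Mult.PCommon
import Cfsg.Agent.Lib.RuAut.Mult.DataP2
import Cfsg.Agent.Lib.RuAut.Mult.P2Rels0
import Cfsg.Agent.Lib.RuAut.Mult.P2Rels1
import Cfsg.Agent.Lib.RuAut.Mult.P2Rels2
import Cfsg.Agent.Lib.RuAut.Mult.P2Rels3
import Cfsg.Agent.Lib.RuAut.Mult.P2Rels4
import Cfsg.Agent.Lib.RuAut.Mult.P2Rels5
import Cfsg.Agent.Lib.RuAut.Mult.P2Paths0
import Cfsg.Agent.Lib.RuAut.Mult.P2Paths1
import Cfsg.Agent.Lib.RuAut.Mult.P2Paths2
import Cfsg.Agent.Lib.RuAut.Mult.P2Paths3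
import Cfsg.Agent.Lib.RuAut.Mult.P2Paths4
import Cfsg.Agent.Lib.RuAut.Mult.P2Paths5
import Cfsg.Agent.Lib.RuAut.Mult.P2Paths6
import Cfsg.Agent.Lib.RuAut.Mult.P2Paths7
import Cfsg.Agent.Lib.RuAut.Mult.P2Paths8
import Cfsg.Agent.Lib.RuAut.Mult.P2Paths9
import Cfsg.Agent.Lib.RuAut.Mult.P2Paths10
import Cfsg.Agent.Lib.RuAut.Mult.P2Paths11

/-! The certificate at the prime two. -/

set_option autoImplicit false
set_option maxRecDepth 100000

namespace CfsgLib.RuAut.Mult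

open Cfsg Cfsg.Spor CfsgLib CfsgLib.CosetEnum CfsgLib.RuAut

theorem mask2 : SchurPath.maskCheck cert2 mus2 combs2 rows2 = true := by decide +kernel

theorem sift2_ok : siftB letters2 cert2.m sift2 = true ∧ Nat.ble (2 ^ cert2.m) (siftN sift2) = true := by
  constructor <;> decide +kernel

theorem rels2_ok : relsB letters2 cert2.rels = true := by
  show relsB letters2 rels2 = true
  rw [rels2, relsB]
  simp only [List.all_append, Bool.and_eq_true]
  exact ⟨⟨⟨⟨⟨rels_ok0, rels_ok1⟩, rels_ok2⟩, rels_ok3⟩, rels_ok4⟩, rels_ok5⟩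

/-- The multiplier of the double cover has no part at two. -/
theorem not_dvd_two {Γ : Type} [Group Γ] [Finite Γ] (σ : Γ →* coverGrp) (hσ : Function.Surjective σ)
    (hc : σ.ker ≤ Subgroup.center Γ) (hd : σ.ker ≤ commutator Γ) : ¬ 2 ∣ Nat.card σ.ker :=
  not_two_dvd_of_data letters2 sift2 cert2 mus2 combs2 rows2 paths2 mask2 (rowsB_append _ (rowsB_append _ (rowsB_append _ (rowsB_append _ (rowsB_append _ (rowsB_append _ (rowsB_append _ (rowsB_append _ (rowsB_append _ (rowsB_append _ (rowsB_append _ paths_ok0 paths_ok1) paths_ok2) paths_ok3) paths_ok4) paths_ok5) paths_ok6) paths_ok7) paths_ok8) paths_ok9) paths_ok10) paths_ok11)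
    (dataOK_of _ _ _ _ rels2_ok sift2_ok.1 sift2_ok.2) (i := 8906625)
    (by show _ = 2 ^ 15 * _; norm_num) (by norm_num) σ hσ hc hd

end CfsgLib.RuAut.Mult
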