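import Cfsg.Agent.Lib.RuAut.Mult.Eval
import Cfsg.Agent.Lib.Schur.PathMask

/-! Compact paths and the certificate at the prime two for the double cover. -/

set_option autoImplicit false
set_option maxRecDepth 100000

namespace CfsgLib.RuAut.Mult

open Cfsg Cfsg.Spor CfsgLib CfsgLib.CosetEnum CfsgLib.RuAut

/-- A path from its start and the codes `position + 256 * (2 * relation + direction)`. -/
def expandP (R : SchurPath.Rels) : List ℕ → List ℕ → List SchurPath.Step
  | _, [] => []
  | w, c :: cs =>
    let pos := c % 256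
    let r := c / 512
    let d := Nat.beq ((c / 256) % 2) 1
    let l := bif d then (R.getD r ([], [])).2 else (R.getD r ([], [])).1
    let st : SchurPath.Step := (w.take pos, w.drop (pos + l.length), r, d)
    st :: expandP R (SchurPath.dst R st) cs

/-- One row is the form of a closed path. -/
def rowOK (R : SchurPath.Rels) (q : List ℕ × List ℕ) (a : ℕ) : Bool :=
  (fun st => SchurPath.chain R q.1 q.1 st && SchurPath.maskSum st == a) (expandP R q.1 q.2)

/-- The rows are the forms of the closed paths. -/
def rowsB (R : SchurPath.Rels) : List (List ℕ × List ℕ) → List ℕ → Bool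
  | [], [] => true
  | q :: qs, a :: as => rowOK R q a && rowsB R qs as
  | _, _ => false

theorem rowsB_append (R : SchurPath.Rels) : ∀ {P P' : List (List ℕ × List ℕ)} {A A' : List ℕ},
    rowsB R P A = true → rowsB R P' A' = true → rowsB R (P ++ P') (A ++ A') = true
  | [], _, [], _, _, h => h
  | q :: qs, P', a :: as, A', h, h' => by
    simp only [rowsB, Bool.and_eq_true, List.cons_append] at h ⊢
    exact ⟨h.1, rowsB_append R h.2 h'⟩
  | [], _, _ :: _, _, h, _ => Bool.noConfusion h
  | _ :: _, _, [], _, h, _ => Bool.noConfusion h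

theorem isRow_of_rowsB (R : SchurPath.Rels) : ∀ (P : List (List ℕ × List ℕ)) (rows : List ℕ),
    rowsB R P rows = true → ∀ a ∈ rows, SchurPath.IsRow R a
  | [], [], _, a, ha => absurd ha List.not_mem_nil
  | q :: qs, b :: bs, h, a, ha => by
    simp only [rowsB, rowOK, Bool.and_eq_true, beq_iff_eq] at h
    rcases List.mem_cons.1 ha with rfl | ha
    · exact ⟨q.1, _, h.1.1, h.1.2⟩
    · exact isRow_of_rowsB R qs bs h.2 a ha
  | [], _ :: _, h, _, _ => Bool.noConfusion h
  | _ :: _, [], h, _, _ => Bool.noConfusion h

/-- The relations hold in the double cover. -/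
noncomputable def relsB (L : List (List ℕ)) (R : SchurPath.Rels) : Bool :=
  R.all fun r => eqV (flat L r.1) (flat L r.2)

theorem dataOK_of (L : List (List ℕ)) (sift : List (ℕ × List (List ℕ))) (C : SchurPath.Cert) (q : ℕ)
    (hR : relsB L C.rels = true) (hs : siftB L C.m sift = true) (hq : Nat.ble q (siftN sift) = true) :
    dataOK L sift C q = true := by
  unfold dataOK relsB at *
  simp only [Bool.and_eq_true]
  exact ⟨⟨hR, hs⟩, hq⟩

theorem sift_le_closure (L : List (List ℕ)) {m : ℕ} (sift : List (ℕ × List (List ℕ)))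
    (hsift : siftB L m sift = true) :
    siftN sift ≤ Nat.card (Subgroup.closure {x : coverGrp | ∃ a < m, evK (L.getD a []) = x}) := by
  refine sift_le_card L sift _ hsift fun w hw => ?_
  rw [evK_flat]
  refine list_prod_mem fun y hy => ?_
  obtain ⟨a, ha, rfl⟩ := List.mem_map.1 hy
  refine Subgroup.subset_closure ⟨a, ?_, rfl⟩
  induction sift with
  | nil => simp at hw
  | cons e rest ih =>
    obtain ⟨n, ws⟩ := e
    simp only [siftB, Bool.and_eq_true, List.all_eq_true, Nat.blt_eq] at hsift
    simp only [List.flatMap_cons, List.mem_append] at hw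
    rcases hw with hw | hw
    · exact (hsift.1.1.1.2 w hw).1 a ha
    · exact ih hsift.2 hw

/-- The mask certificate at the prime two, applied to the double cover. -/
theorem not_two_dvd_of_data (L : List (List ℕ)) (sift : List (ℕ × List (List ℕ))) (C : SchurPath.Cert)
    (mus combs rows : List ℕ) (P : List (List ℕ × List ℕ))
    (hC : SchurPath.maskCheck C mus combs rows = true) (hP : rowsB C.rels P rows = true)
    (hD : dataOK L sift C (2 ^ C.m) = true) {i : ℕ}
    (hNi : 291852288000 = 2 ^ C.m * i) (hi : ¬ 2 ∣ i) {Γ : Type*} [Group Γ] [Finite Γ]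
    (σ : Γ →* coverGrp) (hσ : Function.Surjective σ) (hc : σ.ker ≤ Subgroup.center Γ)
    (hd : σ.ker ≤ commutator Γ) : ¬ 2 ∣ Nat.card σ.ker := by
  simp only [dataOK, Bool.and_eq_true, Nat.ble_eq] at hD
  obtain ⟨⟨hR, hsift⟩, hq⟩ := hD
  refine SchurPath.not_dvd_card_ker_of_maskCheck C mus combs rows hC (isRow_of_rowsB _ P rows hP)
    (fun a => evK (L.getD a [])) ?_ (le_trans hq (sift_le_closure L sift hsift))
    card_coverGrp hNi hi σ hσ hc hd
  intro r hr
  have := List.all_eq_true.1 hR _ (List.getElem_mem hr)
  rw [List.getD_eq_getElem _ _ hr, ← evK_flat, ← evK_flat]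
  exact eqV_spec this

end CfsgLib.RuAut.Mult
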